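import Cfsg.Agent.Lib.Goldschmidt92.Involves

/-!
The normalizer of a subgroup of order three with an inverting involution that centralizes a
complement in the centralizer.
-/

set_option autoImplicit false

namespace Cfsg.Agent.Lib.Co1Odd43

variable {Γ : Type*} [Group Γ]

/-- The image of an element of the dihedral group of order six. -/
def dihFun (b t : Γ) : DihedralGroup 3 → Γ
  | .r i => b ^ i.val
  | .sr i => t * b ^ i.val

theorem exists_dih_hom {b t : Γ} (hb : b ^ 3 = 1) (hb1 : b ≠ 1) (ht : t * t = 1)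
    (htb : t * b * t = b⁻¹) : ∃ f : DihedralGroup 3 →* Γ,
      Function.Injective f ∧ f (.r 1) = b ∧ f (.sr 0) = t ∧ ∀ d, f d = dihFun b t d := by
  have hob : orderOf b = 3 := orderOf_eq_prime hb hb1
  have hti : t⁻¹ = t := inv_eq_of_mul_eq_one_left ht
  have hadd : ∀ i j : ZMod 3, b ^ (i + j).val = b ^ i.val * b ^ j.val := by
    intro i j
    rw [← pow_add, pow_eq_pow_iff_modEq, hob, ZMod.val_add]
    exact Nat.mod_modEq _ _
  have hneg : ∀ i : ZMod 3, b ^ i.val * t = t * b ^ (-i).val := by
    intro i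
    have h1 : b ^ (-i).val = (b ^ i.val)⁻¹ :=
      eq_inv_of_mul_eq_one_left (by rw [← hadd, neg_add_cancel, ZMod.val_zero, pow_zero])
    have h2 : (t * b * t) ^ i.val = t * b ^ i.val * t := by
      conv_lhs => rw [show t * b * t = t * b * t⁻¹ by rw [hti]]
      rw [conj_pow, hti]
    rw [htb, inv_pow] at h2
    rw [h1, h2, ← mul_assoc, ← mul_assoc, ht, one_mul]
  let f : DihedralGroup 3 →* Γ := MonoidHom.mk' (dihFun b t) (by
    rintro (i | i) (j | j)
    · exact hadd i j
    · show t * b ^ (j - i).val = b ^ i.val * (t * b ^ j.val)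
      rw [← mul_assoc, hneg, mul_assoc, ← hadd, sub_eq_neg_add]
    · show t * b ^ (i + j).val = t * b ^ i.val * b ^ j.val
      rw [mul_assoc, ← hadd]
    · show b ^ (j - i).val = t * b ^ i.val * (t * b ^ j.val)
      rw [mul_assoc, ← mul_assoc (b ^ i.val), hneg, mul_assoc, ← mul_assoc t, ht, one_mul, ← hadd,
        sub_eq_neg_add])
  refine ⟨f, ?_, ?_, ?_, fun d => rfl⟩
  · have key : ∀ i : ZMod 3, b ^ i.val = 1 → i = 0 := fun i h => by
      rw [← orderOf_dvd_iff_pow_eq_one, hob] at h
      exact (ZMod.val_eq_zero i).1 (Nat.eq_zero_of_dvd_of_lt h (ZMod.val_lt i))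
    rw [injective_iff_map_eq_one]
    rintro (i | i) h
    · change b ^ i.val = 1 at h
      rw [key i h]; rfl
    · exfalso
      change t * b ^ i.val = 1 at h
      have hd : t * b * t⁻¹ = b := by
        rw [eq_inv_of_mul_eq_one_left h]
        group
      rw [hti, htb] at hd
      rw [eq_comm] at hd
      refine hb1 ?_
      calc b = b ^ 3 * (b * b)⁻¹ := by group
        _ = 1 := by rw [hb, one_mul, inv_eq_one, ← eq_inv_iff_mul_eq_one]; exact hd
  · show b ^ (1 : ZMod 3).val = b
    rw [ZMod.val_one, pow_one]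
  · show t * b ^ (0 : ZMod 3).val = t
    rw [ZMod.val_zero, pow_zero, mul_one]

theorem dih_center : ∀ d : DihedralGroup 3,
    d * .r 1 = .r 1 * d → d * .sr 0 = .sr 0 * d → d = 1 := by decide

/-- The normalizer of the subgroup of order three is the product of the symmetric group of degree
three and the complement. -/
theorem normalizer_iso {A : Type*} [Group A] {b t : Γ} {K : Subgroup Γ} (e : K ≃* A) (hb : b ^ 3 = 1)
    (hb1 : b ≠ 1) (ht : t * t = 1) (htb : t * b * t = b⁻¹) (hKb : ∀ k ∈ K, k * b = b * k)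
    (hKt : ∀ k ∈ K, k * t = t * k)
    (hC : ∀ c : Γ, c * b = b * c → ∃ j : ℕ, ∃ k ∈ K, c = b ^ j * k) :
    Nonempty (↥(Subgroup.normalizer ((Subgroup.zpowers b : Subgroup Γ) : Set Γ)) ≃*
      Equiv.Perm (Fin 3) × A) := by
  obtain ⟨f, hf, hfb, hft, hfd⟩ := exists_dih_hom hb hb1 ht htb
  have hob : orderOf b = 3 := orderOf_eq_prime hb hb1
  have hti : t⁻¹ = t := inv_eq_of_mul_eq_one_left ht
  have hcomm : ∀ (d : DihedralGroup 3) (k : K), Commute (f d) (K.subtype k) := by
    intro d k
    have h1 : Commute b (k : Γ) := (hKb k k.2).symm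
    have h2 : Commute t (k : Γ) := (hKt k k.2).symm
    show Commute (f d) (k : Γ)
    rw [hfd]
    rcases d with i | i
    exacts [h1.pow_left _, h2.mul_left (h1.pow_left _)]
  set g : DihedralGroup 3 × K →* Γ := f.noncommCoprod K.subtype hcomm with hg
  have hgi : Function.Injective g := by
    rw [injective_iff_map_eq_one]
    rintro ⟨d, k⟩ h
    rw [hg, MonoidHom.noncommCoprod_apply, Subgroup.subtype_apply] at h
    have hk : (k : Γ) = (f d)⁻¹ := eq_inv_of_mul_eq_one_right h
    have hd : d = 1 := by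
      refine dih_center d (hf ?_) (hf ?_) <;> rw [map_mul, map_mul]
      · rw [hfb]
        have h1 : Commute (k : Γ) b := hKb k k.2
        rw [hk] at h1
        exact (Commute.inv_left_iff.1 h1).eq
      · rw [hft]
        have h1 : Commute (k : Γ) t := hKt k k.2
        rw [hk] at h1
        exact (Commute.inv_left_iff.1 h1).eq
    rw [hd, map_one, inv_one] at hk
    exact Prod.ext hd (Subtype.ext hk)
  have hcard : Nat.card (Subgroup.zpowers b) = 3 := by rw [Nat.card_zpowers, hob]
  have hrange : g.range = Subgroup.normalizer ((Subgroup.zpowers b : Subgroup Γ) : Set Γ) := by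
    haveI : Finite (Subgroup.zpowers b) := Nat.finite_of_card_ne_zero (by omega)
    refine le_antisymm ?_ ?_
    · rintro _ ⟨⟨d, k⟩, rfl⟩
      rw [hg, MonoidHom.noncommCoprod_apply, Subgroup.subtype_apply]
      have hmem : ∀ x : Γ, (x * b * x⁻¹ = b ∨ x * b * x⁻¹ = b⁻¹) →
          x ∈ Subgroup.normalizer ((Subgroup.zpowers b : Subgroup Γ) : Set Γ) := by
        intro x hx
        rw [Subgroup.mem_normalizer_iff_map_conj_eq, MonoidHom.map_zpowers]
        change Subgroup.zpowers (x * b * x⁻¹) = Subgroup.zpowers b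
        rcases hx with hx | hx <;> rw [hx]
        exact Subgroup.zpowers_inv
      refine mul_mem ?_ (hmem _ (Or.inl ?_))
      · have hbN := hmem b (Or.inl (by group))
        have htN := hmem t (Or.inr (by rw [hti]; exact htb))
        rw [hfd]
        rcases d with i | i
        exacts [pow_mem hbN _, mul_mem htN (pow_mem hbN _)]
      · show (k : Γ) * b * (k : Γ)⁻¹ = b
        rw [hKb k k.2, mul_inv_cancel_right]
    · intro n hn
      have hbmem : b ∈ g.range := ⟨(.r 1, 1), by rw [hg, MonoidHom.noncommCoprod_apply, map_one, mul_one, hfb]⟩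
      have htmem : t ∈ g.range := ⟨(.sr 0, 1), by rw [hg, MonoidHom.noncommCoprod_apply, map_one, mul_one, hft]⟩
      have hKmem : ∀ k ∈ K, k ∈ g.range := fun k hk => ⟨(1, ⟨k, hk⟩), by rw [hg, MonoidHom.noncommCoprod_apply, map_one, one_mul]; rfl⟩
      have hCmem : ∀ c : Γ, c * b = b * c → c ∈ g.range := fun c hc => by
        obtain ⟨j, k, hk, rfl⟩ := hC c hc
        exact mul_mem (pow_mem hbmem j) (hKmem k hk)
      obtain ⟨m, hm : b ^ m = n * b * n⁻¹⟩ :=
        (Subgroup.mem_normalizer_iff.1 hn b).1 (Subgroup.mem_zpowers b)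
      rw [← zpow_mod_orderOf, hob] at hm
      have h0 : 0 ≤ m % 3 := Int.emod_nonneg _ (by norm_num)
      have h3 : m % 3 < 3 := Int.emod_lt_of_pos _ (by norm_num)
      have hcases : m % 3 = 0 ∨ m % 3 = 1 ∨ m % 3 = 2 := by omega
      rcases hcases with e0 | e0 | e0
      · exfalso
        refine hb1 ?_
        rw [show ((3 : ℕ) : ℤ) = 3 from rfl, e0, zpow_zero] at hm
        calc b = n⁻¹ * (n * b * n⁻¹) * n := by group
          _ = 1 := by rw [← hm]; group
      · rw [show ((3 : ℕ) : ℤ) = 3 from rfl, e0, zpow_one] at hm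
        refine hCmem n ?_
        conv_rhs => rw [hm]
        group
      · rw [show ((3 : ℕ) : ℤ) = 3 from rfl, e0] at hm
        have h2 : n * b * n⁻¹ = b⁻¹ := by
          rw [← hm, eq_inv_iff_mul_eq_one, ← zpow_add_one]
          exact (zpow_natCast b 3).trans hb
        have hc : (t * n) * b = b * (t * n) :=
          calc (t * n) * b = t * (n * b * n⁻¹) * n := by group
            _ = t * (t * b * t) * n := by rw [h2, htb]
            _ = (t * t) * b * (t * n) := by group
            _ = b * (t * n) := by rw [ht, one_mul]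
        have := mul_mem htmem (hCmem _ hc)
        rwa [← mul_assoc, ht, one_mul] at this
  exact ⟨(MulEquiv.subgroupCongr hrange.symm).trans ((MonoidHom.ofInjective hgi).symm.trans
    (Goldschmidt92.dihedralEquiv.prodCongr e))⟩

end Cfsg.Agent.Lib.Co1Odd43
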