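import Cfsg.Agent.Lib.MonsterLocal52.Thompson.Group
import Cfsg.Agent.Lib.MonsterLocal52.Quotient
import Cfsg.Agent.Lib.Co1Mult.Words
import Cfsg.Agent.Lib.Co1Odd43.Split

/-!
In `Co₁` the normalizer of the subgroup generated by the image of the fixed-point-free permutation of
order three with eight orbits is the product of the symmetric group of degree three and the alternating
group of degree nine: the nine-point action of the centralizer is coded already, and a permutation of
order two inverts the element and centralizes a complement.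
-/

set_option autoImplicit false
set_option maxRecDepth 20000

namespace Cfsg.Agent.Lib.Co1Odd43.Three

open Cfsg Cfsg.Agent.Lib.Co3Model Cfsg.Agent.Lib.MonsterLocal52
open Cfsg.Agent.Lib.Leech (negOne negOne_mem_center center_co0_eq)
open Cfsg.Agent.Lib.LeechMod2
open Cfsg.Agent.Lib.Co1Mult.Words (eqW eq_of_eqW rep wordElt_rep wordElt_nil)

/-- The inverting permutation. -/
def tW : List Op := [.perm 51487377776847023311754722669563616 51487377776847023311754722669563616]

/-- The permutation of order three. -/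
def sW : List Op := [.perm Thompson.data.r Thompson.data.r']

/-- The powers turning the coded generators into elements commuting with the inverting permutation. -/
def exps : List ℕ :=
  [1, 0, 0, 0, 0, 0, 0, 0, 0, 0, 0, 0, 0, 0, 0, 0, 0, 2, 1, 1, 0, 0, 2, 1, 1, 0, 1, 2, 2, 1, 0, 2,
   0, 2, 2, 1, 0, 1, 2, 0, 0, 0, 0, 0, 0, 0, 0, 0, 0, 0, 0, 0, 0, 0, 0, 0, 0, 0, 0, 0, 0, 0]

/-- A coded generator times a power of the permutation. -/
def genW (k : ℕ) : List Op :=
  rep (exps.getD k 0) sW ++ (Thompson.data.allG.getD k ([], ⟨[], [], []⟩)).1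

theorem tau_ok : (eqW (tW ++ tW) [] && eqW (tW ++ sW ++ tW) (sW ++ sW)) = true := by decide +kernel

theorem gens_ok : ((List.range Thompson.data.allG.length).all fun k =>
    eqW (genW k ++ tW) (tW ++ genW k)) = true := by decide +kernel

/-- The element of order three in the lattice group. -/
noncomputable def s : Co0 := LatData.π Thompson.good.lat

theorem wordElt_sW : wordElt sW = s := by
  have h : (Op.perm Thompson.data.r Thompson.data.r').ok = true := by decide +kernel
  simp only [sW, wordElt, List.map_cons, List.map_nil, List.prod_cons, List.prod_nil, mul_one,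
    Op.elt, dif_pos h]
  rfl

/-- The element of order three. -/
noncomputable def b : Spor.Co1 := Thompson.good.β

theorem bar_s : Frame.bar s = b := rfl

theorem b_pow : b ^ 3 = 1 := Thompson.good.β_pow

theorem b_ne : b ≠ 1 := Thompson.good.β_ne_one

/-- The inverting involution. -/
noncomputable def t : Spor.Co1 := Frame.bar (wordElt tW)

theorem t_mul : t * t = 1 := by
  have h := tau_ok
  rw [Bool.and_eq_true] at h
  rw [t, ← map_mul, ← Co1Mult.Words.wordElt_append, eq_of_eqW h.1, wordElt_nil, map_one]

theorem t_conj : t * b * t = b⁻¹ := by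
  have h := tau_ok
  rw [Bool.and_eq_true] at h
  have e := eq_of_eqW h.2
  simp only [Co1Mult.Words.wordElt_append, wordElt_sW] at e
  rw [t, ← bar_s, ← map_mul, ← map_mul, e, map_mul, bar_s, eq_inv_iff_mul_eq_one, ← pow_two,
    ← pow_succ, b_pow]

/-- The complement. -/
noncomputable def K : Subgroup Spor.Co1 := Thompson.good.CB ⊓ Subgroup.centralizer {t}

theorem mem_CB {x : Spor.Co1} : x ∈ Thompson.good.CB ↔ x * b = b * x := by
  rw [LocData.Good.CB, Subgroup.mem_centralizer_singleton_iff]
  rfl

/-- The action of the complement. -/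
noncomputable def phiK : K →* Equiv.Perm (Fin 9) :=
  Thompson.good.phiBar.comp (Subgroup.inclusion inf_le_left)

theorem phiK_injective : Function.Injective phiK := by
  rw [injective_iff_map_eq_one]
  rintro ⟨x, hxC, hxt⟩ h
  obtain ⟨j, hj⟩ := Thompson.good.phiBar_eq_one_iff.1 h
  change x = b ^ j at hj
  subst hj
  replace hxt : b ^ j * t = t * b ^ j := Subgroup.mem_centralizer_singleton_iff.1 hxt
  have h1 : (t * b * t) ^ j = b ^ j := by
    rw [show t * b * t = t * b * t⁻¹ by rw [inv_eq_of_mul_eq_one_left t_mul], conj_pow, ← hxt,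
      mul_inv_cancel_right]
  rw [t_conj, inv_pow, inv_eq_iff_mul_eq_one, ← pow_add] at h1
  have h3 : orderOf b ∣ j + j := orderOf_dvd_of_pow_eq_one h1
  rw [orderOf_eq_prime b_pow b_ne] at h3
  obtain ⟨m, rfl⟩ : 3 ∣ j := (Nat.Prime.dvd_mul Nat.prime_three).1 (by
    rw [two_mul]; exact h3 : 3 ∣ 2 * j) |>.resolve_left (by norm_num)
  exact Subtype.ext (show b ^ (3 * m) = 1 by rw [pow_mul, b_pow, one_pow])

theorem range_phiK : phiK.range = Thompson.good.phi.range := by
  refine le_antisymm ?_ ?_
  · rintro _ ⟨x, rfl⟩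
    rw [← LocData.Good.range_phiBar]
    exact ⟨_, rfl⟩
  · intro f hf
    have h : f ∈ Submonoid.closure Thompson.good.PS := Thompson.good.range_phi ▸ hf
    refine (Submonoid.closure_le (S := phiK.range.toSubmonoid)).2 ?_ h
    rintro _ ⟨e, he, rfl⟩
    obtain ⟨k, hk, hke⟩ := List.getElem_of_mem he
    have hgk : Thompson.data.allG.getD k ([], ⟨[], [], []⟩) = e := by
      rw [List.getD_eq_getElem _ _ hk, hke]
    have hc := gens_ok
    simp only [List.all_eq_true, List.mem_range] at hc
    have hc' := eq_of_eqW (hc k hk)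
    obtain ⟨g1, -, g3, -, -⟩ := Thompson.good.gen_spec he
    have hs : s ∈ Thompson.good.CC := LatData.π_mem Thompson.good.lat
    let g : Thompson.good.CC :=
      ⟨s, hs⟩ ^ exps.getD k 0 * ⟨wordElt e.1, g1⟩
    have hg : (g : Co0) = wordElt (genW k) := by
      rw [genW, hgk, Co1Mult.Words.wordElt_append, wordElt_rep, wordElt_sW]
      rfl
    have hphi : Thompson.good.phi g = Thompson.data.permE e.2 := by
      rw [map_mul, map_pow,
        show Thompson.good.phi ⟨s, hs⟩ = 1 from Thompson.good.phi_π, one_pow, one_mul]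
      exact Thompson.good.movesPerm_eq _ g3
    refine ⟨⟨Thompson.good.qCC g, (Thompson.good.qCC g).2,
      Subgroup.mem_centralizer_singleton_iff.2 ?_⟩, ?_⟩
    · show Frame.bar (g : Co0) * t = t * Frame.bar (g : Co0)
      rw [hg, t, ← map_mul, ← map_mul, ← Co1Mult.Words.wordElt_append, ← Co1Mult.Words.wordElt_append, hc']
    · exact (Thompson.good.phiBar_qCC g).trans hphi

theorem exists_complement_iso : Nonempty (K ≃* alternatingGroup (Fin 9)) :=
  ⟨(MonoidHom.ofInjective phiK_injective).trans
    (MulEquiv.subgroupCongr (range_phiK.trans Thompson.range_eq))⟩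

theorem cover (c : Spor.Co1) (hc : c * b = b * c) : ∃ j : ℕ, ∃ k ∈ K, c = b ^ j * k := by
  have hmem : c ∈ Thompson.good.CB := mem_CB.2 hc
  have h : Thompson.good.phiBar ⟨c, hmem⟩ ∈ phiK.range := by
    rw [range_phiK, ← LocData.Good.range_phiBar]
    exact ⟨_, rfl⟩
  obtain ⟨k, hk⟩ := h
  have h1 : Thompson.good.phiBar (⟨c, hmem⟩ * (⟨k.1, k.2.1⟩ : Thompson.good.CB)⁻¹) = 1 := by
    rw [map_mul, map_inv, mul_inv_eq_one]
    exact hk.symm
  obtain ⟨j, hj⟩ := Thompson.good.phiBar_eq_one_iff.1 h1
  refine ⟨j, k.1, k.2, ?_⟩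
  change c * (k.1)⁻¹ = b ^ j at hj
  rw [← hj, inv_mul_cancel_right]

/-- A subgroup of order three with normalizer `S₃ × A₉`. -/
theorem exists_three : ∃ W : Subgroup Spor.Co1, Nat.card W = 3 ∧
    Nonempty (↥(Subgroup.normalizer (W : Set Spor.Co1)) ≃*
      Equiv.Perm (Fin 3) × alternatingGroup (Fin 9)) := by
  obtain ⟨e⟩ := exists_complement_iso
  refine ⟨Subgroup.zpowers b, by rw [Nat.card_zpowers, orderOf_eq_prime b_pow b_ne], ?_⟩
  exact normalizer_iso e b_pow b_ne t_mul t_conj (fun k hk => mem_CB.1 hk.1)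
    (fun k hk => Subgroup.mem_centralizer_singleton_iff.1 hk.2) cover

end Cfsg.Agent.Lib.Co1Odd43.Three
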